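import Groth.Agent.ContentLib.Alg
import Groth.Agent.AdicInjLib.Main
import Groth.Agent.ProjLib.FlatML
import Groth.Agent.ProjLib.MLOps
import Groth.Agent.ProjLib.Descent
import Mathlib.Algebra.TrivSqZeroExt.Basic

/-!
# Projectivity of smooth and of flat algebras with geometrically integral fibres
-/

set_option autoImplicit false
set_option backward.isDefEq.respectTransparency false
set_option linter.style.haveILetI false

universe u

open TensorProduct

noncomputable section

namespace GeomPureLib

section content

variable {A B : Type u} [CommRing A] [CommRing B] [Algebra A B]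

/-- The linear part of evaluation at elements of square zero. -/
theorem exists_linear_part {r : ℕ} (j : MvPolynomial (Fin r) A) :
    ∃ a : Fin r → A, ∀ (Q : Type u) [AddCommGroup Q] [Module A Q] [Module Aᵐᵒᵖ Q] [IsCentralScalar A Q]
      (q : Fin r → Q),
      (MvPolynomial.aeval (fun i => (TrivSqZeroExt.inr (q i) : TrivSqZeroExt A Q)) j).fst =
        MvPolynomial.constantCoeff j ∧
      (MvPolynomial.aeval (fun i => (TrivSqZeroExt.inr (q i) : TrivSqZeroExt A Q)) j).snd = ∑ i, a i • q i := by
  classical
  induction j using MvPolynomial.induction_on with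
  | C c =>
    refine ⟨0, fun Q _ _ _ _ q => ?_⟩
    rw [MvPolynomial.aeval_C]
    simp [TrivSqZeroExt.algebraMap_eq_inl]
  | add j k hj hk =>
    obtain ⟨a, ha⟩ := hj
    obtain ⟨b, hb⟩ := hk
    refine ⟨a + b, fun Q _ _ _ _ q => ?_⟩
    rw [map_add, TrivSqZeroExt.fst_add, TrivSqZeroExt.snd_add, (ha Q q).1, (ha Q q).2, (hb Q q).1, (hb Q q).2]
    exact ⟨(map_add _ _ _).symm, by simp only [Pi.add_apply, _root_.add_smul, Finset.sum_add_distrib]⟩
  | mul_X j n hj =>
    obtain ⟨a, ha⟩ := hj
    refine ⟨Pi.single n (MvPolynomial.constantCoeff j), fun Q _ _ _ _ q => ?_⟩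
    rw [map_mul, MvPolynomial.aeval_X, TrivSqZeroExt.fst_mul, TrivSqZeroExt.snd_mul, TrivSqZeroExt.fst_inr,
      TrivSqZeroExt.snd_inr, mul_zero, (ha Q q).1, map_mul, MvPolynomial.constantCoeff_X, mul_zero]
    refine ⟨rfl, ?_⟩
    rw [MulOpposite.op_zero, zero_smul, add_zero, Finset.sum_eq_single_of_mem n (Finset.mem_univ n)]
    · rw [Pi.single_eq_same]
    · intro i _ hi
      rw [Pi.single_eq_of_ne hi, zero_smul]

/-- A smooth algebra with geometrically irreducible fibres is a Mittag-Leffler module. -/
theorem isMittagLeffler_of_irredFibres [Algebra.Smooth A B] (h : ContentLib.IrredFibres A B) :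
    CAlg.IsMittagLeffler A B := by
  classical
  intro ι Qf _ _
  rw [injective_iff_map_eq_zero]
  intro z hz
  obtain ⟨S, rfl⟩ := TensorProduct.exists_finset z
  let r := S.card
  let e : Fin r ≃ S := S.equivFin.symm
  let x : Fin r → B := fun i => (e i).1.1
  let qq : Fin r → (∀ α, Qf α) := fun i => (e i).1.2
  have hS : ∑ p ∈ S, p.1 ⊗ₜ[A] p.2 = ∑ i, x i ⊗ₜ[A] qq i := by
    rw [← Finset.sum_coe_sort S, ← Equiv.sum_comp e]
  rw [hS] at hz ⊢
  let P := MvPolynomial (Fin r) A
  obtain ⟨J, hfg, hJ⟩ := ContentLib.exists_ideal_elem (ContentLib.irredFibres_baseChange h P)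
    (∑ i, (MvPolynomial.X i : P) ⊗ₜ[A] x i)
  obtain ⟨t, ht⟩ := hfg
  choose a ha using fun j : P => exists_linear_part j
  -- the test of a family of elements
  have key : ∀ (Q : Type u) [AddCommGroup Q] [Module A Q] (q : Fin r → Q),
      ∑ i, x i ⊗ₜ[A] q i = 0 ↔
        ∀ j ∈ t, MvPolynomial.constantCoeff j = 0 ∧ ∑ i, a j i • q i = 0 := by
    intro Q _ _ q
    letI : Module Aᵐᵒᵖ Q := Module.compHom Q ((RingHom.id A).fromOpposite fun x y => Commute.all x y)
    haveI : IsCentralScalar A Q := ⟨fun _ _ => rfl⟩
    let C := TrivSqZeroExt A Q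
    let φ : P →ₐ[A] C := MvPolynomial.aeval fun i => TrivSqZeroExt.inr (q i)
    letI : Algebra P C := φ.toRingHom.toAlgebra
    haveI : IsScalarTower A P C := IsScalarTower.of_algebraMap_eq fun c => (φ.commutes c).symm
    have h1 := hJ C
    rw [← (Algebra.TensorProduct.cancelBaseChange A P P C B).injective.eq_iff, map_zero, tmul_sum, map_sum] at h1
    simp only [Algebra.TensorProduct.cancelBaseChange_tmul, Algebra.smul_def, mul_one] at h1
    have h2 : (∑ i, algebraMap P C (MvPolynomial.X i) ⊗ₜ[A] x i : C ⊗[A] B) =
        (TrivSqZeroExt.inrHom A Q).rTensor B (TensorProduct.comm A B Q (∑ i, x i ⊗ₜ[A] q i)) := by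
      simp only [map_sum, TensorProduct.comm_tmul, LinearMap.rTensor_tmul]
      refine Finset.sum_congr rfl fun i _ => ?_
      rw [show algebraMap P C (MvPolynomial.X i) = TrivSqZeroExt.inr (q i) from MvPolynomial.aeval_X _ i]
      rfl
    have hinj : Function.Injective ((TrivSqZeroExt.inrHom A Q).rTensor B) := by
      refine Function.LeftInverse.injective (g := (TrivSqZeroExt.sndHom A Q).rTensor B) fun z => ?_
      rw [← LinearMap.rTensor_comp_apply,
        show (TrivSqZeroExt.sndHom A Q).comp (TrivSqZeroExt.inrHom A Q) = LinearMap.id from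
          LinearMap.ext fun m => TrivSqZeroExt.snd_inr A m, LinearMap.rTensor_id, LinearMap.id_apply]
    rw [h2, map_eq_zero_iff _ hinj, LinearEquiv.map_eq_zero_iff] at h1
    rw [← h1, ← ht, Ideal.span_le]
    refine forall₂_congr fun j _ => ?_
    show φ j = 0 ↔ _
    rw [TrivSqZeroExt.ext_iff, TrivSqZeroExt.fst_zero, TrivSqZeroExt.snd_zero, (ha j Q q).1, (ha j Q q).2]
  have hconst : ∀ j ∈ t, MvPolynomial.constantCoeff j = 0 := fun j hj =>
    ((key A 0).1 (by simp) j hj).1
  obtain ⟨y, hy⟩ := ProjLib.exists_of_sum_tmul_mkQ_eq_zero (fun i (j : t) => a j.1 i) x ((key _ _).2 fun j hj =>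
    ⟨hconst j hj, by
      simp only [← map_smul, ← map_sum, ← pi_eq_sum_univ' fun i => a j i]
      rw [Submodule.mkQ_apply, Submodule.Quotient.mk_eq_zero]
      exact Submodule.subset_span ⟨⟨j, hj⟩, rfl⟩⟩)
  simp only [hy, sum_tmul, smul_tmul]
  rw [Finset.sum_comm]
  refine Finset.sum_eq_zero fun j _ => ?_
  rw [← tmul_sum, show ∑ i, a j.1 i • qq i = 0 from funext fun α => ?_, tmul_zero]
  rw [Finset.sum_apply]
  refine (((key (Qf α) fun i => qq i α).1 ?_) j.1 j.2).2
  have h4 := congrFun hz α
  rw [map_sum, Finset.sum_apply] at h4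
  simpa using h4

theorem isCountablyGenerated_of_finiteType [Algebra.FiniteType A B] : CAlg.IsCountablyGenerated A B := by
  obtain ⟨n, π, hπ⟩ := Algebra.FiniteType.iff_quotient_mvPolynomial''.1 ‹Algebra.FiniteType A B›
  refine ⟨Set.range fun m : Fin n →₀ ℕ => π (MvPolynomial.monomial m 1), Set.countable_range _,
    eq_top_iff.2 fun b _ => ?_⟩
  obtain ⟨f, rfl⟩ := hπ b
  rw [f.as_sum, map_sum]
  refine Submodule.sum_mem _ fun m _ => ?_
  rw [← mul_one (MvPolynomial.coeff m f), ← smul_eq_mul, ← MvPolynomial.smul_monomial, map_smul]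
  exact Submodule.smul_mem _ _ (Submodule.subset_span ⟨m, rfl⟩)

theorem projective_of_irredFibres [Algebra.Smooth A B] (h : ContentLib.IrredFibres A B) : Module.Projective A B := by
  obtain ⟨s, hs, hspan⟩ := isCountablyGenerated_of_finiteType (A := A) (B := B)
  exact ProjLib.projective_of_flat_mittagLeffler_countable (isMittagLeffler_of_irredFibres h) s hs hspan

/-- A flat algebra with integral geometric fibres and a smooth principal open meeting all fibres is projective. -/
theorem projective_of_smooth_away [Algebra.FiniteType A B] [Module.Flat A B]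
    (hdom : ∀ (K : Type u) [Field K] [Algebra A K], IsDomain (K ⊗[A] B)) (g : B)
    [Algebra.Smooth A (Localization.Away g)]
    (hg : ∀ (K : Type u) [Field K] [Algebra A K], (1 : K) ⊗ₜ[A] g ≠ 0) : Module.Projective A B := by
  let C := Localization.Away g
  have hirr : ContentLib.IrredFibres A C := fun K _ _ => by
    haveI := hdom K
    let g' : K ⊗[A] B := (1 : K) ⊗ₜ[A] g
    haveI : IsLocalization ((Submonoid.powers g).map (Algebra.TensorProduct.includeRight (R := A) (A := K) (B := B)))
        (Localization.Away g') := by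
      rw [Submonoid.map_powers]
      exact inferInstanceAs (IsLocalization (Submonoid.powers g') (Localization.Away g'))
    let e : K ⊗[A] C ≃ₐ[K] Localization.Away g' :=
      IsLocalization.tensorProductEquivOfMapIncludeRight A K (Submonoid.powers g) C (Localization.Away g')
    haveI : IsDomain (Localization.Away g') :=
      IsLocalization.isDomain_localization (powers_le_nonZeroDivisors_of_noZeroDivisors (hg K))
    haveI : IsDomain (K ⊗[A] C) := MulEquiv.isDomain _ e.toRingEquiv.toMulEquiv
    rw [nilradical_eq_zero]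
    exact Ideal.isPrime_bot
  have hinj : ∀ (Q : Type u) [AddCommGroup Q] [Module A Q],
      Function.Injective ((IsScalarTower.toAlgHom A B C).toLinearMap.rTensor Q) := by
    intro Q _ _
    rw [injective_iff_map_eq_zero]
    intro z hz
    obtain ⟨⟨_, n, rfl⟩, hn⟩ := (IsLocalizedModule.eq_zero_iff (Submonoid.powers g)
      (TensorProduct.AlgebraTensorModule.rTensor A Q (Algebra.linearMap B C))).1
      (show TensorProduct.AlgebraTensorModule.rTensor A Q (Algebra.linearMap B C) z = 0 from hz)
    by_contra hne
    obtain ⟨p, q, _, _, _, hP, hann⟩ := FlatInjLib.exists_relAss_annihilator_le (S := B) Q z hne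
    have hgq : g ∈ q := Ideal.IsPrime.mem_of_pow_mem inferInstance n (hann _ hn)
    haveI := hdom p.ResidueField
    haveI : IsNoetherianRing (p.Fiber B) := Algebra.FiniteType.isNoetherianRing p.ResidueField _
    haveI := IsAssociatedPrime.isPrime hP
    obtain ⟨-, x, hx⟩ := isAssociatedPrime_iff.1 hP
    letI : Algebra B (p.Fiber B) := Algebra.TensorProduct.rightAlgebra
    let e : FlatCA.fiberMod p B B ≃ₗ[p.Fiber B] p.Fiber B :=
      TensorProduct.AlgebraTensorModule.rid B (p.Fiber B) (p.Fiber B)
    have h2 : (Algebra.TensorProduct.includeRight (R := A) (A := p.ResidueField) (B := B)) g ∈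
        FlatCA.fiberIdeal p q := Ideal.mem_map_of_mem _ hgq
    rw [hx, Submodule.mem_colon_singleton, Submodule.mem_bot] at h2
    have h3 := congrArg e h2
    rw [map_smul, map_zero, smul_eq_mul] at h3
    refine hg p.ResidueField ((mul_eq_zero.1 h3).resolve_right fun h0 =>
      (IsAssociatedPrime.isPrime hP).ne_top ?_)
    rw [hx, (LinearEquiv.map_eq_zero_iff e).1 h0]
    exact (Ideal.eq_top_iff_one _).2 (Submodule.mem_colon_singleton.2 (smul_zero _))
  obtain ⟨s, hs, hspan⟩ := isCountablyGenerated_of_finiteType (A := A) (B := B)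
  exact ProjLib.projective_of_flat_mittagLeffler_countable
    (ProjLib.isMittagLeffler_of_injective _ hinj (isMittagLeffler_of_irredFibres hirr)) s hs hspan

/-- Projectivity is local on the base for the Zariski topology. -/
theorem projective_of_localization_away {s : Finset A} (hs : Ideal.span (s : Set A) = ⊤)
    (h : ∀ t ∈ s, Module.Projective (Localization.Away t) (Localization.Away t ⊗[A] B)) : Module.Projective A B := by
  classical
  let R := fun t : s => Localization.Away (t : A)
  let A' := ∀ t : s, R t
  haveI : Module.FaithfullyFlat A A' := by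
    refine Module.FaithfullyFlat.of_comap_surjective fun p => ?_
    obtain ⟨t, ht, htp⟩ : ∃ t ∈ s, t ∉ p.asIdeal := by
      by_contra hno
      push Not at hno
      exact p.isPrime.ne_top (top_le_iff.1 (hs ▸ Ideal.span_le.2 hno))
    obtain ⟨q, hq⟩ : p ∈ Set.range (PrimeSpectrum.comap (algebraMap A (Localization.Away t))) := by
      rw [PrimeSpectrum.localization_away_comap_range (Localization.Away t) t]
      exact htp
    refine ⟨PrimeSpectrum.comap (Pi.evalRingHom R ⟨t, ht⟩) q, ?_⟩
    rw [← hq, ← PrimeSpectrum.comap_comp_apply]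
    rfl
  suffices Module.Projective A' (A' ⊗[A] B) from
    ProjLib.projective_of_faithfullyFlat (R := A) (M := B) (S := A')
  letI : ∀ t, Algebra A' (R t) := fun t => (Pi.evalRingHom R t).toAlgebra
  haveI : ∀ t, IsScalarTower A A' (R t) := fun t => IsScalarTower.of_algebraMap_eq fun _ => rfl
  have hP : ∀ t : s, Module.Projective A' (R t ⊗[A] B) := fun t => by
    haveI := h t.1 t.2
    let single : R t →ₗ[A'] A' :=
      { toFun := fun x => Pi.single t x
        map_add' := fun x y => Pi.single_add t x y
        map_smul' := fun c x => by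
          funext k
          by_cases hk : k = t
          · subst hk
            show Pi.single (M := R) k (c k * x) k = c k * Pi.single (M := R) k x k
            rw [Pi.single_eq_same, Pi.single_eq_same]
          · show Pi.single (M := R) t (c t * x) k = c k * Pi.single (M := R) t x k
            rw [Pi.single_eq_of_ne hk, Pi.single_eq_of_ne hk, mul_zero] }
    haveI : Module.Projective A' (R t) :=
      Module.Projective.of_split single (Algebra.linearMap A' (R t)) (LinearMap.ext fun x => by
        show Pi.evalRingHom R t (Pi.single t x) = x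
        simp)
    haveI : Module.Projective A' ((R t ⊗[A] B) →₀ R t) :=
      Module.Projective.of_equiv (finsuppLequivDFinsupp A' (ι := R t ⊗[A] B) (M := R t)).symm
    haveI : IsScalarTower A' (R t) (R t ⊗[A] B) := inferInstance
    obtain ⟨σ, hσ⟩ := Module.projective_def.1 (show Module.Projective (R t) (R t ⊗[A] B) from h t.1 t.2)
    exact Module.Projective.of_split (σ.restrictScalars A') ((Finsupp.linearCombination (R t) id).restrictScalars A')
      (LinearMap.ext fun x => hσ x)
  let π : ∀ t, A' ⊗[A] B →ₗ[A'] R t ⊗[A] B := fun t =>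
    TensorProduct.AlgebraTensorModule.rTensor A B (Algebra.linearMap A' (R t))
  let ι' : ∀ t, R t →ₗ[A] A' := fun t => LinearMap.single A R t
  let φ : A' ⊗[A] B →ₗ[A'] (∀ t, R t ⊗[A] B) := LinearMap.pi π
  have hφ : Function.Bijective φ := by
    refine Function.bijective_iff_has_inverse.2 ⟨fun v => ∑ t, (ι' t).rTensor B (v t), fun z => ?_, fun v => ?_⟩
    · induction z using TensorProduct.induction_on with
      | zero => simp
      | add z w hz hw => simp only [map_add, Pi.add_apply, Finset.sum_add_distrib] at hz hw ⊢; rw [hz, hw]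
      | tmul c b =>
        show ∑ t, (Pi.single t (c t) : A') ⊗ₜ[A] b = c ⊗ₜ[A] b
        rw [← sum_tmul, Finset.univ_sum_single]
    · funext k
      show π k (∑ t, (ι' t).rTensor B (v t)) = v k
      rw [map_sum, Finset.sum_eq_single_of_mem k (Finset.mem_univ k)]
      · induction v k using TensorProduct.induction_on with
        | zero => simp
        | add z w hz hw => rw [map_add, map_add, hz, hw]
        | tmul c b =>
          show (Pi.single k c : A') k ⊗ₜ[A] b = c ⊗ₜ[A] b
          rw [Pi.single_eq_same]
      · intro t _ hne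
        induction v t using TensorProduct.induction_on with
        | zero => simp
        | add z w hz hw => rw [map_add, map_add, hz, hw, add_zero]
        | tmul c b =>
          show (Pi.single t c : A') k ⊗ₜ[A] b = 0
          rw [Pi.single_eq_of_ne (Ne.symm hne), zero_tmul]
  haveI := hP
  haveI : Module.Projective A' (∀ t, R t ⊗[A] B) :=
    Module.Projective.of_equiv (DFinsupp.linearEquivFunOnFintype (R := A') (M := fun t => R t ⊗[A] B))
  exact Module.Projective.of_equiv (LinearEquiv.ofBijective φ hφ).symm

end content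

end GeomPureLib
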