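import Groth.Prelude.Def_FlatCA

/-!
# Purity and closed immersions
-/

set_option autoImplicit false
set_option backward.isDefEq.respectTransparency false
set_option linter.style.haveILetI false
set_option linter.unusedSectionVars false

universe u

open TensorProduct

noncomputable section

namespace GeomPureLib

section Fibre

variable {R S T : Type u} [CommRing R] [CommRing S] [CommRing T] [Algebra R S] [Algebra S T] [Algebra R T]
  [IsScalarTower R S T] (p : Ideal R) [p.IsPrime] (N : Type u) [AddCommGroup N] [Module T N] [Module S N]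
  [IsScalarTower S T N] [Module R N] [IsScalarTower R T N] [IsScalarTower R S N]

variable (S T) in
/-- The map of fibre rings induced by `S → T`. -/
abbrev fiberHom : p.Fiber S →ₐ[p.ResidueField] p.Fiber T :=
  Algebra.TensorProduct.map (AlgHom.id p.ResidueField p.ResidueField) (IsScalarTower.toAlgHom R S T)

theorem exists_fiberMod_equiv :
    ∃ Φ : FlatCA.fiberMod p S N ≃+ FlatCA.fiberMod p T N,
      ∀ r x, Φ (r • x) = fiberHom S T p r • Φ x := by
  letI : Algebra S (p.Fiber S) := Algebra.TensorProduct.rightAlgebra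
  letI : Algebra T (p.Fiber T) := Algebra.TensorProduct.rightAlgebra
  let E : (p.Fiber S) ⊗[S] N ≃ₗ[p.ResidueField] p.ResidueField ⊗[R] N :=
    Algebra.IsPushout.cancelBaseChange R p.ResidueField S (p.Fiber S) N
  let F : (p.Fiber T) ⊗[T] N ≃ₗ[p.ResidueField] p.ResidueField ⊗[R] N :=
    Algebra.IsPushout.cancelBaseChange R p.ResidueField T (p.Fiber T) N
  have hE : ∀ (c : p.ResidueField) (n : N), E.symm (c ⊗ₜ n) = (c ⊗ₜ[R] (1 : S)) ⊗ₜ[S] n := fun c n =>
    Algebra.IsPushout.cancelBaseChange_symm_tmul R p.ResidueField S (p.Fiber S) N c n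
  have hF : ∀ (c : p.ResidueField) (n : N), F.symm (c ⊗ₜ n) = (c ⊗ₜ[R] (1 : T)) ⊗ₜ[T] n := fun c n =>
    Algebra.IsPushout.cancelBaseChange_symm_tmul R p.ResidueField T (p.Fiber T) N c n
  let Φ : (p.Fiber S) ⊗[S] N ≃+ (p.Fiber T) ⊗[T] N := E.toAddEquiv.trans F.symm.toAddEquiv
  refine ⟨Φ, ?_⟩
  show ∀ (r : p.Fiber S) (x : (p.Fiber S) ⊗[S] N), Φ (r • x) = fiberHom S T p r • Φ x
  intro r x
  obtain ⟨w, rfl⟩ := E.symm.surjective x
  induction w using TensorProduct.induction_on with
  | zero => rw [map_zero, smul_zero, map_zero, smul_zero]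
  | add a b ha hb => rw [map_add, smul_add, map_add, map_add, ha, hb, smul_add]
  | tmul d n =>
    have hΦ : ∀ (c : p.ResidueField) (m : N), Φ ((c ⊗ₜ[R] (1 : S)) ⊗ₜ[S] m) = (c ⊗ₜ[R] (1 : T)) ⊗ₜ[T] m := fun c m => by
      show F.symm (E _) = _
      rw [← hE, LinearEquiv.apply_symm_apply, hF]
    rw [hE]
    induction r using TensorProduct.induction_on with
    | zero => rw [zero_smul, map_zero, map_zero, zero_smul]
    | add a b ha hb => rw [add_smul, map_add, map_add, ha, hb, add_smul]
    | tmul c s =>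
      have e₁ : (c ⊗ₜ[R] s : p.Fiber S) * (d ⊗ₜ[R] (1 : S)) = s • ((c * d) ⊗ₜ[R] (1 : S)) := by
        rw [Algebra.smul_def]
        show _ = ((1 : p.ResidueField) ⊗ₜ[R] s) * _
        rw [Algebra.TensorProduct.tmul_mul_tmul, Algebra.TensorProduct.tmul_mul_tmul, one_mul, mul_one]
      have e₂ : (c ⊗ₜ[R] algebraMap S T s : p.Fiber T) * (d ⊗ₜ[R] (1 : T)) =
          algebraMap S T s • ((c * d) ⊗ₜ[R] (1 : T)) := by
        rw [Algebra.smul_def]
        show _ = ((1 : p.ResidueField) ⊗ₜ[R] algebraMap S T s) * _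
        rw [Algebra.TensorProduct.tmul_mul_tmul, Algebra.TensorProduct.tmul_mul_tmul, one_mul, mul_one]
      rw [TensorProduct.smul_tmul', smul_eq_mul, e₁, TensorProduct.smul_tmul, hΦ, hΦ]
      show _ = (c ⊗ₜ[R] algebraMap S T s : p.Fiber T) • _
      rw [TensorProduct.smul_tmul', smul_eq_mul, e₂, TensorProduct.smul_tmul, algebraMap_smul]

/-- Associated primes of the fibre modules along a closed immersion. -/
theorem fiberIdeal_mem_iff (hs : Function.Surjective (algebraMap S T)) (Q : Ideal T) :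
    FlatCA.fiberIdeal p Q ∈ associatedPrimes (p.Fiber T) (FlatCA.fiberMod p T N) ↔
      FlatCA.fiberIdeal p (Q.comap (algebraMap S T)) ∈ associatedPrimes (p.Fiber S) (FlatCA.fiberMod p S N) := by
  let φ := (fiberHom S T p).toRingHom
  have hφ : Function.Surjective φ :=
    Algebra.TensorProduct.map_surjective _ _ Function.surjective_id hs
  have hmap : (FlatCA.fiberIdeal p (Q.comap (algebraMap S T))).map φ = FlatCA.fiberIdeal p Q := by
    conv_rhs => rw [← Ideal.map_comap_of_surjective _ hs Q]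
    rw [FlatCA.fiberIdeal, FlatCA.fiberIdeal, Ideal.map_map, Ideal.map_map]
    exact congrArg (fun g => Ideal.map g (Q.comap (algebraMap S T)))
      (RingHom.ext fun s => Algebra.TensorProduct.map_tmul _ _ _ _)
  have hker : RingHom.ker φ ≤ FlatCA.fiberIdeal p (Q.comap (algebraMap S T)) := by
    have h := Algebra.TensorProduct.lTensor_ker (R := R) (A := p.ResidueField)
      (g := IsScalarTower.toAlgHom R S T) hs
    refine le_trans (le_of_eq h) (Ideal.map_mono fun x hx => ?_)
    have hx' : algebraMap S T x = 0 := hx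
    rw [Ideal.mem_comap, hx']
    exact Q.zero_mem
  have hcomap : (FlatCA.fiberIdeal p Q).comap φ = FlatCA.fiberIdeal p (Q.comap (algebraMap S T)) := by
    rw [← hmap, Ideal.comap_map_of_surjective φ hφ, sup_eq_left]
    exact hker
  obtain ⟨Φ, hΦ⟩ := exists_fiberMod_equiv (S := S) (T := T) p N
  have hcol : ∀ x, ((⊥ : Submodule (p.Fiber T) (FlatCA.fiberMod p T N)).colon {Φ x}).comap φ =
      (⊥ : Submodule (p.Fiber S) (FlatCA.fiberMod p S N)).colon {x} := fun x => by
    ext r
    rw [Ideal.mem_comap, Submodule.mem_colon_singleton, Submodule.mem_colon_singleton, Submodule.mem_bot,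
      Submodule.mem_bot, ← map_eq_zero_iff Φ Φ.injective (x := r • x), hΦ]
    rfl
  constructor
  · rintro ⟨hp, y, hy⟩
    haveI := hp
    obtain ⟨x, rfl⟩ := Φ.surjective y
    refine ⟨hcomap ▸ Ideal.comap_isPrime φ _, x, ?_⟩
    rw [← hcomap, ← hcol, hy, Ideal.comap_radical]
  · rintro ⟨hp, x, hx⟩
    haveI := hp
    refine ⟨hmap ▸ Ideal.map_isPrime_of_surjective hφ hker, Φ x, ?_⟩
    rw [← hcol, ← hcomap, ← Ideal.comap_radical] at hx
    exact Ideal.comap_injective_of_surjective φ hφ hx

theorem fiberIdeal_mem_iff_of_equiv {S : Type u} [CommRing S] [Algebra R S] {M M' : Type u} [AddCommGroup M]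
    [Module S M] [AddCommGroup M'] [Module S M'] (e : M ≃ₗ[S] M') (Q : Ideal S) :
    FlatCA.fiberIdeal p Q ∈ associatedPrimes (p.Fiber S) (FlatCA.fiberMod p S M) ↔
      FlatCA.fiberIdeal p Q ∈ associatedPrimes (p.Fiber S) (FlatCA.fiberMod p S M') := by
  letI : Algebra S (p.Fiber S) := Algebra.TensorProduct.rightAlgebra
  let E : FlatCA.fiberMod p S M ≃ₗ[p.Fiber S] FlatCA.fiberMod p S M' :=
    TensorProduct.AlgebraTensorModule.congr (LinearEquiv.refl (p.Fiber S) (p.Fiber S)) e
  exact E.isAssociatedPrime_iff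

theorem mem_of_includeRight_mem {S : Type u} [CommRing S] [Algebra R S] (P : Ideal S) [P.IsPrime]
    (hP : P.LiesOver p) {k : S}
    (hk : (Algebra.TensorProduct.includeRight (R := R) (A := p.ResidueField) (B := S)) k ∈ FlatCA.fiberIdeal p P) :
    k ∈ P := by
  let ψ : p.Fiber S →ₐ[R] P.ResidueField := Algebra.TensorProduct.lift
    (Ideal.ResidueField.mapₐ p P (Algebra.ofId R S) hP.over) (IsScalarTower.toAlgHom R S P.ResidueField)
    fun _ _ => Commute.all _ _
  have h0 : FlatCA.fiberIdeal p P ≤ RingHom.ker ψ.toRingHom := Ideal.map_le_iff_le_comap.2 fun s hs => by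
    show ψ (1 ⊗ₜ s) = 0
    rw [Algebra.TensorProduct.lift_tmul, map_one, one_mul]
    exact Ideal.algebraMap_residueField_eq_zero.2 hs
  have h1 : ψ (1 ⊗ₜ k) = 0 := h0 hk
  rw [Algebra.TensorProduct.lift_tmul, map_one, one_mul] at h1
  exact Ideal.algebraMap_residueField_eq_zero.1 h1

end Fibre

section Main

/-- There is no impurity with a given base change ring and given points. -/
def NoImp (A B : Type u) [CommRing A] [CommRing B] [Algebra A B] (N : Type u) [AddCommGroup N] [Module B N]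
    (p : Ideal A) [p.IsPrime] (A' : Type u) [CommRing A'] [Algebra A A'] (t' t : Ideal A') [t'.IsPrime] [t.IsPrime] :
    Prop :=
  ∀ (B' N' : Type u) [CommRing B'] [Algebra B B'] [Algebra A' B'] [Algebra A B'] [IsScalarTower A B B']
    [IsScalarTower A A' B'] [AddCommGroup N'] [Module B' N'] [Module B N'] [IsScalarTower B B' N'] [Module A' N']
    [IsScalarTower A' B' N'] (f : N →ₗ[B] N') (P : Ideal B') [P.IsPrime],
      ¬ FlatCA.IsImpurity A B N p A' B' N' f t' t P

variable {A B C : Type u} [CommRing A] [CommRing B] [CommRing C] [Algebra A B] [Algebra B C] [Algebra A C]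
  [IsScalarTower A B C] (N : Type u) [AddCommGroup N] [Module C N] [Module B N] [IsScalarTower B C N]

theorem isBaseChange_restrict {B' C' N' : Type u} [CommRing B'] [CommRing C'] [Algebra B B'] [Algebra B' C']
    [Algebra B C'] [Algebra C C'] [IsScalarTower B B' C'] [IsScalarTower B C C'] [Algebra.IsPushout B C B' C']
    [AddCommGroup N'] [Module C' N'] [Module C N'] [IsScalarTower C C' N'] [Module B' N'] [IsScalarTower B' C' N']
    [Module B N'] [IsScalarTower B B' N'] [IsScalarTower B C N'] {f : N →ₗ[C] N'} (hf : IsBaseChange C' f) :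
    IsBaseChange B' (f.restrictScalars B) := by
  haveI : Algebra.IsPushout B B' C C' := Algebra.IsPushout.symm ‹_›
  refine IsBaseChange.of_equiv ((Algebra.IsPushout.cancelBaseChange B B' C C' N).symm.trans
    (hf.equiv.restrictScalars B')) fun x => ?_
  rw [LinearEquiv.trans_apply, Algebra.IsPushout.cancelBaseChange_symm_tmul]
  show hf.equiv _ = f x
  rw [map_one, IsBaseChange.equiv_tmul, one_smul]

variable (hBC : Function.Surjective (algebraMap B C)) (p : Ideal A) [p.IsPrime]
  {A' : Type u} [CommRing A'] [Algebra A A'] (t' t : Ideal A') [t'.IsPrime] [t.IsPrime]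

include hBC

theorem noImp_of_pushforward (h : NoImp A B N p A' t' t) : NoImp A C N p A' t' t := by
  intro C' N' _ _ _ _ _ _ _ _ _ _ _ _ f Q _ ⟨hpush, hbc, htt, hto, hQt, hass, hno⟩
  letI : Algebra B (A' ⊗[A] B) := Algebra.TensorProduct.rightAlgebra
  let π : A' ⊗[A] B →ₐ[A'] C' := Algebra.TensorProduct.lift (Algebra.ofId A' C')
    ((IsScalarTower.toAlgHom A C C').comp (IsScalarTower.toAlgHom A B C)) fun _ _ => Commute.all _ _
  letI : Algebra (A' ⊗[A] B) C' := π.toRingHom.toAlgebra
  letI : Algebra B C' := ((algebraMap C C').comp (algebraMap B C)).toAlgebra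
  letI : Module (A' ⊗[A] B) N' := Module.compHom N' (π : A' ⊗[A] B →+* C')
  letI : Module B N' := Module.compHom N' (algebraMap B C')
  have hπB : ∀ b : B, π ((1 : A') ⊗ₜ b) = algebraMap B C' b := fun b => by
    rw [Algebra.TensorProduct.lift_tmul, map_one, one_mul]; rfl
  haveI : IsScalarTower A' (A' ⊗[A] B) C' := IsScalarTower.of_algebraMap_eq fun x => (π.commutes x).symm
  haveI : IsScalarTower B C C' := IsScalarTower.of_algebraMap_eq' rfl
  haveI : IsScalarTower B (A' ⊗[A] B) C' := IsScalarTower.of_algebraMap_eq fun b => (hπB b).symm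
  haveI : IsScalarTower (A' ⊗[A] B) C' N' := IsScalarTower.of_algebraMap_smul fun r x => rfl
  haveI : IsScalarTower B C' N' := IsScalarTower.of_algebraMap_smul fun r x => rfl
  haveI : IsScalarTower B (A' ⊗[A] B) N' := IsScalarTower.of_algebraMap_smul fun b x => by
    show π ((1 : A') ⊗ₜ b) • x = algebraMap B C' b • x
    rw [hπB]
  haveI : IsScalarTower B C N' := IsScalarTower.of_algebraMap_smul fun b x => by
    rw [← algebraMap_smul C' (algebraMap B C b) x]; rfl
  haveI : IsScalarTower A' (A' ⊗[A] B) N' := IsScalarTower.of_algebraMap_smul fun a x => by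
    show π (algebraMap A' (A' ⊗[A] B) a) • x = a • x
    rw [π.commutes, algebraMap_smul]
  haveI : IsScalarTower A (A' ⊗[A] B) C' := IsScalarTower.of_algebraMap_eq fun a => by
    rw [IsScalarTower.algebraMap_apply A A' (A' ⊗[A] B), IsScalarTower.algebraMap_apply A A' C']
    exact (π.commutes _).symm
  haveI : Algebra.IsPushout A B A' (A' ⊗[A] B) := inferInstance
  haveI hp' : Algebra.IsPushout B C (A' ⊗[A] B) C' :=
    (Algebra.IsPushout.comp_iff (R := A) (S := B) (R' := A') (S' := A' ⊗[A] B) (T := C) (T' := C')).1 hpush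
  have hs : Function.Surjective (algebraMap (A' ⊗[A] B) C') := by
    intro x
    haveI := hpush.symm
    obtain ⟨y, rfl⟩ := (Algebra.IsPushout.equiv A A' C C').surjective x
    induction y using TensorProduct.induction_on with
    | zero => exact ⟨0, by rw [map_zero, map_zero]⟩
    | add a b ha hb =>
      obtain ⟨a', ha'⟩ := ha
      obtain ⟨b', hb'⟩ := hb
      exact ⟨a' + b', by rw [map_add, ha', hb', map_add]⟩
    | tmul a c =>
      obtain ⟨b, rfl⟩ := hBC c
      refine ⟨a ⊗ₜ b, ?_⟩
      rw [Algebra.IsPushout.equiv_tmul]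
      exact Algebra.TensorProduct.lift_tmul _ _ _ _ _
  refine h (A' ⊗[A] B) N' (f.restrictScalars B) (Q.comap (algebraMap (A' ⊗[A] B) C'))
    ⟨inferInstance, isBaseChange_restrict N hbc, htt, hto, ⟨?_⟩, ?_, fun P' _ hle hlies => ?_⟩
  · rw [Ideal.under_def, Ideal.comap_comap, ← IsScalarTower.algebraMap_eq]
    exact hQt.over
  · exact (fiberIdeal_mem_iff t' N' hs Q).1 hass
  · have hk : RingHom.ker (algebraMap (A' ⊗[A] B) C') ≤ P' := le_trans (Ideal.ker_le_comap _) hle
    haveI := Ideal.map_isPrime_of_surjective hs hk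
    refine hno (P'.map (algebraMap (A' ⊗[A] B) C')) ?_ ⟨?_⟩
    · rw [← Ideal.map_comap_of_surjective _ hs Q]; exact Ideal.map_mono hle
    · rw [Ideal.under_def, IsScalarTower.algebraMap_eq A' (A' ⊗[A] B) C', ← Ideal.comap_comap,
        Ideal.comap_map_of_surjective' _ hs, sup_eq_left.2 hk]
      exact hlies.over

theorem noImp_pushforward (h : NoImp A C N p A' t' t) : NoImp A B N p A' t' t := by
  intro B' N' _ _ _ _ _ _ _ _ _ _ _ _ f P _ ⟨hpush, hbc, htt, hto, hPt, hass, hno⟩
  letI : Algebra C (B' ⊗[B] C) := Algebra.TensorProduct.rightAlgebra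
  haveI := hpush
  haveI : IsScalarTower A C (B' ⊗[B] C) := IsScalarTower.of_algebraMap_eq fun a => by
    rw [IsScalarTower.algebraMap_apply A B (B' ⊗[B] C), IsScalarTower.algebraMap_apply A B C,
      ← IsScalarTower.algebraMap_apply B C (B' ⊗[B] C)]
  have hs : Function.Surjective (algebraMap B' (B' ⊗[B] C)) := fun x => by
    induction x using TensorProduct.induction_on with
    | zero => exact ⟨0, map_zero _⟩
    | add a b ha hb =>
      obtain ⟨a', ha'⟩ := ha
      obtain ⟨b', hb'⟩ := hb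
      exact ⟨a' + b', by rw [map_add, ha', hb']⟩
    | tmul a c =>
      obtain ⟨b, rfl⟩ := hBC c
      refine ⟨a * algebraMap B B' b, ?_⟩
      show (a * algebraMap B B' b) ⊗ₜ[B] (1 : C) = _
      rw [mul_comm, ← Algebra.smul_def, TensorProduct.smul_tmul, Algebra.smul_def, mul_one]
  haveI : Algebra.IsPushout A C A' (B' ⊗[B] C) :=
    (Algebra.IsPushout.comp_iff (R := A) (S := B) (R' := A') (S' := B') (T := C) (T' := B' ⊗[B] C)).2 inferInstance
  let f' : N →ₗ[C] (B' ⊗[B] C) ⊗[C] N := TensorProduct.mk C (B' ⊗[B] C) N 1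
  have hf' : IsBaseChange (B' ⊗[B] C) f' := TensorProduct.isBaseChange C N (B' ⊗[B] C)
  have hf'B : IsBaseChange B' (f'.restrictScalars B) := isBaseChange_restrict N hf'
  have hass' := (fiberIdeal_mem_iff_of_equiv t' (hbc.equiv.symm.trans hf'B.equiv) P).1 hass
  haveI := IsAssociatedPrime.isPrime hass'
  -- `P` contains the kernel of `B' → B' ⊗ C`
  have hk : RingHom.ker (algebraMap B' (B' ⊗[B] C)) ≤ P := fun k hk => by
    by_contra hkP
    obtain ⟨-, x, hx⟩ := hass'
    obtain ⟨Φ, hΦ⟩ := exists_fiberMod_equiv (S := B') (T := B' ⊗[B] C) t' ((B' ⊗[B] C) ⊗[C] N)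
    have h0 : (Algebra.TensorProduct.includeRight (R := A') (A := t'.ResidueField) (B := B')) k • x = 0 := by
      refine Φ.injective ?_
      rw [hΦ, map_zero, Algebra.TensorProduct.includeRight_apply, Algebra.TensorProduct.map_tmul]
      rw [show (IsScalarTower.toAlgHom A' B' (B' ⊗[B] C)) k = 0 from hk, tmul_zero]
      exact zero_smul (M₀ := t'.Fiber (B' ⊗[B] C)) (Φ x)
    have h1 : (Algebra.TensorProduct.includeRight (R := A') (A := t'.ResidueField) (B := B')) k ∈
        FlatCA.fiberIdeal t' P := by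
      rw [hx]
      exact Ideal.le_radical (Submodule.mem_colon_singleton.2 (by rw [h0]; exact Submodule.zero_mem _))
    exact hkP (mem_of_includeRight_mem t' P hPt h1)
  haveI := Ideal.map_isPrime_of_surjective hs hk
  have hcm : (P.map (algebraMap B' (B' ⊗[B] C))).comap (algebraMap B' (B' ⊗[B] C)) = P := by
    rw [Ideal.comap_map_of_surjective _ hs, sup_eq_left]; exact hk
  refine h (B' ⊗[B] C) ((B' ⊗[B] C) ⊗[C] N) f' (P.map (algebraMap B' (B' ⊗[B] C)))
    ⟨inferInstance, hf', htt, hto, ⟨?_⟩, ?_, fun Q' _ hle hlies => ?_⟩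
  · rw [Ideal.under_def, IsScalarTower.algebraMap_eq A' B' (B' ⊗[B] C), ← Ideal.comap_comap, hcm]
    exact hPt.over
  · exact (fiberIdeal_mem_iff t' _ hs _).2 (by rw [hcm]; exact hass')
  · refine hno (Q'.comap (algebraMap B' (B' ⊗[B] C))) (hcm.symm.le.trans (Ideal.comap_mono hle)) ⟨?_⟩
    rw [Ideal.under_def, Ideal.comap_comap, ← IsScalarTower.algebraMap_eq]
    exact hlies.over

theorem isPureAlong_iff_pushforward :
    (FlatCA.IsPureAlong A C N p ↔ FlatCA.IsPureAlong A B N p) ∧
      (FlatCA.IsUnivPureAlong A C N p ↔ FlatCA.IsUnivPureAlong A B N p) := by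
  constructor <;> constructor
  · intro h A' B' N' _ _ _ _ _ _ _ _ _ _ _ _ _ _ f t' t _ _ P _ he
    exact noImp_pushforward N hBC p t' t (fun C' M' _ _ _ _ _ _ _ _ _ _ _ _ g Q _ => h A' C' M' g t' t Q he) B' N' f P
  · intro h A' C' N' _ _ _ _ _ _ _ _ _ _ _ _ _ _ f t' t _ _ Q _ he
    exact noImp_of_pushforward N hBC p t' t (fun B' M' _ _ _ _ _ _ _ _ _ _ _ _ g P _ => h A' B' M' g t' t P he) C' N' f Q
  · intro h A' B' N' _ _ _ _ _ _ _ _ _ _ _ _ _ _ f t' t _ _ P _
    exact noImp_pushforward N hBC p t' t (fun C' M' _ _ _ _ _ _ _ _ _ _ _ _ g Q _ => h A' C' M' g t' t Q) B' N' f P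
  · intro h A' C' N' _ _ _ _ _ _ _ _ _ _ _ _ _ _ f t' t _ _ Q _
    exact noImp_of_pushforward N hBC p t' t (fun B' M' _ _ _ _ _ _ _ _ _ _ _ _ g P _ => h A' B' M' g t' t P) C' N' f Q

end Main

end GeomPureLib
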