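import Groth.Agent.GeomPureLib.Proj
import Groth.Agent.GeomRedFieldLib.Generic
import Groth.Agent.S16763

/-!
# Flat morphisms of affine schemes with geometrically integral fibres
-/

set_option autoImplicit false
set_option backward.isDefEq.respectTransparency false
set_option linter.style.haveILetI false

universe u

open CategoryTheory CategoryTheory.Limits AlgebraicGeometry TopologicalSpace TensorProduct

noncomputable section

namespace GeomPureLib

variable {X S : Scheme.{u}} (f : X ⟶ S)

/-- Every fibre meets the smooth locus. -/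
theorem exists_smooth_point [Flat f] [LocallyOfFinitePresentation f] [GeometricallyIntegral f] (s : S) :
    ∃ (x : X) (U : X.Opens), f x = s ∧ x ∈ U ∧ Smooth (U.ι ≫ f) := by
  let q := f.fiberToSpecResidueField s
  haveI : GeometricallyIntegral q := MorphismProperty.pullback_snd _ _ ‹_›
  haveI hlfp : ∀ s₁ : S, LocallyOfFinitePresentation (f.fiberToSpecResidueField s₁) := fun _ => MorphismProperty.pullback_snd _ _ ‹_›
  haveI : IsIntegral (f.fiber s) := GeometricallyIntegral.isIntegral_of_subsingleton q
  haveI : IsIntegral (Spec (S.residueField s)) := inferInstance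
  haveI : IsDominant q := inferInstance
  haveI : GeometricallyReduced (q.fiberToSpecResidueField (q (genericPoint (f.fiber s)))) :=
    MorphismProperty.pullback_snd _ _ inferInstance
  have hgen := GeomRedFieldLib.genericPoint_mem_smoothLocus q inferInstance
  let x' := genericPoint (f.fiber s)
  have hx : f (f.fiberι s x') = s := by
    have h1 : f.fiberι s x' ∈ Set.range (f.fiberι s) := ⟨_, rfl⟩
    rw [f.range_fiberι] at h1
    exact h1
  refine ⟨f.fiberι s x', ?_⟩
  suffices H : ∀ (s' : S), f (f.fiberι s x') = s' →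
      ∀ (x'' : ↥(f.fiber s')) (_ : f.fiberι s' x'' = f.fiberι s x'),
        x'' ∈ (f.fiberToSpecResidueField s').smoothLocus →
          ∃ U : X.Opens, f (f.fiberι s x') = s ∧ f.fiberι s x' ∈ U ∧ Smooth (U.ι ≫ f) from
    H s hx x' rfl hgen
  rintro s' rfl x'' hx'' hsm
  let V := (f.fiberToSpecResidueField (f (f.fiberι s x'))).smoothLocus
  obtain ⟨U, hU, hUsm⟩ := (Groth.Agent.S16763.result (𝟙 S) f f (Category.comp_id f) (f.fiberι s x')
    (Flat.stalkMap f _) x'' hx'').2 ⟨V, hsm, by
      haveI : IsIso ((𝟙 S : S ⟶ S).fiberToSpecResidueField (f (f.fiberι s x'))) :=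
        inferInstanceAs (IsIso (pullback.snd (𝟙 S) _))
      have hV : Smooth (V.ι ≫ f.fiberToSpecResidueField (f (f.fiberι s x'))) := by
        rw [← Scheme.Hom.smoothLocus_eq_top_iff, ← Scheme.Hom.preimage_smoothLocus_eq,
          Scheme.Opens.ι_preimage_self]
      refine (MorphismProperty.cancel_right_of_respectsIso @Smooth _
        ((𝟙 S : S ⟶ S).fiberToSpecResidueField (f (f.fiberι s x')))).1 ?_
      rw [Category.assoc]
      convert hV using 2
      exact (pullback.lift_snd _ _ _).trans (Category.comp_id _)⟩
  exact ⟨U, hx, hU, hUsm⟩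

theorem smooth_away {g : Γ(X, ⊤)} [IsAffine X] [IsAffine S] (h : Smooth ((X.basicOpen g).ι ≫ f)) :
    letI := (f.appTop).hom.toAlgebra
    Algebra.Smooth Γ(S, ⊤) (Localization.Away g) := by
  letI := (f.appTop).hom.toAlgebra
  let V := X.basicOpen g
  have hV : IsAffineOpen V := (isAffineOpen_top X).basicOpen g
  haveI : IsAffine (V : Scheme.{u}) := hV
  have h1 : ((V.ι ≫ f).appTop).hom.Smooth :=
    (HasRingHomProperty.iff_of_isAffine (P := @Smooth)).1 h
  have h2 : (V.ι ≫ f).appTop ≫ V.topIso.hom = f.appTop ≫ X.presheaf.map (homOfLE le_top).op := by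
    rw [Scheme.Hom.comp_appTop, Category.assoc]
    congr 1
    rw [Scheme.Opens.ι_appTop, Scheme.Opens.topIso_hom, ← Functor.map_comp]
    rfl
  letI : Algebra Γ(X, ⊤) Γ(X, V) := (X.presheaf.map (homOfLE le_top).op).hom.toAlgebra
  letI : Algebra Γ(S, ⊤) Γ(X, V) := (f.appTop ≫ X.presheaf.map (homOfLE le_top).op).hom.toAlgebra
  haveI : IsScalarTower Γ(S, ⊤) Γ(X, ⊤) Γ(X, V) := IsScalarTower.of_algebraMap_eq fun _ => rfl
  haveI : IsLocalization.Away g Γ(X, V) := (isAffineOpen_top X).isLocalization_basicOpen g
  haveI : Algebra.Smooth Γ(S, ⊤) Γ(X, V) := by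
    refine RingHom.smooth_algebraMap.1 ?_
    show (f.appTop ≫ X.presheaf.map (homOfLE le_top).op).hom.Smooth
    rw [← h2, CommRingCat.hom_comp]
    exact RingHom.Smooth.respectsIso.1 _ V.topIso.commRingCatIsoToRingEquiv h1
  exact Algebra.Smooth.of_equiv ((IsLocalization.algEquiv (Submonoid.powers g) (Localization.Away g) Γ(X, V)).symm.restrictScalars Γ(S, ⊤))

theorem projective_of_flat_geometricallyIntegral [IsAffine X] [IsAffine S] [Flat f] [LocallyOfFinitePresentation f]
    [GeometricallyIntegral f] : @Module.Projective Γ(S, ⊤) _ Γ(X, ⊤) _ (f.appTop).hom.toAlgebra.toModule := by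
  classical
  letI := (f.appTop).hom.toAlgebra
  let A := Γ(S, ⊤)
  let B := Γ(X, ⊤)
  haveI : Module.Flat A B := RingHom.flat_algebraMap_iff.1 ((HasRingHomProperty.iff_of_isAffine (P := @Flat)).1 ‹_›)
  haveI : Algebra.FinitePresentation A B :=
    RingHom.finitePresentation_algebraMap.1 ((HasRingHomProperty.iff_of_isAffine (P := @LocallyOfFinitePresentation)).1 ‹_›)
  haveI hgi : GeometricallyIntegral (Spec.map f.appTop) := by
    have h1 : GeometricallyIntegral (f ≫ S.isoSpec.hom) :=
      (MorphismProperty.cancel_right_of_respectsIso @GeometricallyIntegral f S.isoSpec.hom).2 ‹_›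
    rw [← Scheme.isoSpec_hom_naturality f] at h1
    exact (MorphismProperty.cancel_left_of_respectsIso @GeometricallyIntegral X.isoSpec.hom (Spec.map f.appTop)).1 h1
  have hdom : ∀ (K : Type u) [Field K] [Algebra A K], IsDomain (K ⊗[A] B) := fun K _ _ =>
    AdicInjLib.isDomain_tensor (A := A) (B := B) hgi K
  -- a principal open of the base near every point
  have hloc : ∀ s : S, ∃ t : A, s ∈ S.basicOpen t ∧
      Module.Projective (Localization.Away t) (Localization.Away t ⊗[A] B) := by
    intro s
    obtain ⟨x, U, hxs, hxU, hsm⟩ := exists_smooth_point f s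
    obtain ⟨g, hg, hxg⟩ := (isAffineOpen_top X).exists_basicOpen_le ⟨x, hxU⟩ trivial
    let V := X.basicOpen g
    have hVsm : Smooth (V.ι ≫ f) := by
      rw [← X.homOfLE_ι hg, Category.assoc]
      haveI := hsm
      infer_instance
    haveI := smooth_away f hVsm
    obtain ⟨t, ht, hst⟩ := (isAffineOpen_top S).exists_basicOpen_le
      (V := ⟨(V.ι ≫ f) '' Set.univ, (V.ι ≫ f).isOpenMap _ isOpen_univ⟩) ⟨s, ⟨⟨x, hxg⟩, trivial, hxs⟩⟩ trivial
    refine ⟨t, hst, ?_⟩
    let At := Localization.Away t
    let g' : At ⊗[A] B := (1 : At) ⊗ₜ[A] g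
    haveI : IsLocalization ((Submonoid.powers g).map (Algebra.TensorProduct.includeRight (R := A) (A := At) (B := B)))
        (Localization.Away g') := by
      rw [Submonoid.map_powers]
      exact inferInstanceAs (IsLocalization (Submonoid.powers g') (Localization.Away g'))
    let e : At ⊗[A] Localization.Away g ≃ₐ[At] Localization.Away g' :=
      IsLocalization.tensorProductEquivOfMapIncludeRight A At (Submonoid.powers g) (Localization.Away g) (Localization.Away g')
    haveI : Algebra.Smooth At (Localization.Away g') := Algebra.Smooth.of_equiv e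
    refine projective_of_smooth_away (fun K _ _ => ?_) g' fun K _ _ hzero => ?_
    · letI : Algebra A K := ((algebraMap At K).comp (algebraMap A At)).toAlgebra
      haveI : IsScalarTower A At K := IsScalarTower.of_algebraMap_eq fun _ => rfl
      haveI := hdom K
      exact MulEquiv.isDomain _ (Algebra.TensorProduct.cancelBaseChange A At At K B).toRingEquiv.toMulEquiv
    · letI : Algebra A K := ((algebraMap At K).comp (algebraMap A At)).toAlgebra
      haveI : IsScalarTower A At K := IsScalarTower.of_algebraMap_eq fun _ => rfl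
      have h1 := congrArg (Algebra.TensorProduct.cancelBaseChange A At At K B) hzero
      rw [map_zero, Algebra.TensorProduct.cancelBaseChange_tmul, one_smul] at h1
      let p := RingHom.ker (algebraMap A K)
      haveI : p.IsPrime := RingHom.ker_isPrime _
      have htp : t ∉ p := fun htp => by
        have hu : IsUnit (algebraMap A K t) := by
          rw [IsScalarTower.algebraMap_apply A At K]
          exact (IsLocalization.Away.algebraMap_isUnit t).map _
        rw [RingHom.mem_ker.1 htp] at hu
        exact not_isUnit_zero hu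
      let y : S := (isAffineOpen_top S).fromSpec ⟨p, inferInstance⟩
      have hy : (isAffineOpen_top S).primeIdealOf ⟨y, trivial⟩ = ⟨p, inferInstance⟩ :=
        (isAffineOpen_top S).fromSpec.isOpenEmbedding.injective ((isAffineOpen_top S).fromSpec_primeIdealOf _)
      have hyt : y ∈ S.basicOpen t := by
        letI : Algebra A (S.presheaf.stalk y) := (S.presheaf.germ ⊤ y trivial).hom.toAlgebra
        haveI := (isAffineOpen_top S).isLocalization_stalk ⟨y, trivial⟩
        exact (S.mem_basicOpen t y trivial).2 ((IsLocalization.AtPrime.isUnit_to_map_iff (S.presheaf.stalk y)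
          ((isAffineOpen_top S).primeIdealOf ⟨y, trivial⟩).asIdeal t).2 (by rw [hy]; exact htp))
      obtain ⟨z, -, hzy⟩ := ht hyt
      let q := (isAffineOpen_top X).primeIdealOf ⟨z.1, trivial⟩
      have hgq : g ∉ q.asIdeal := by
        letI : Algebra B (X.presheaf.stalk z.1) := (X.presheaf.germ ⊤ z.1 trivial).hom.toAlgebra
        haveI := (isAffineOpen_top X).isLocalization_stalk ⟨z.1, trivial⟩
        exact (IsLocalization.AtPrime.isUnit_to_map_iff (X.presheaf.stalk z.1) q.asIdeal g).1
          ((X.mem_basicOpen g z.1 trivial).1 z.2)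
      have hqp : q.asIdeal.comap (algebraMap A B) = p := by
        have h2 := IsAffineOpen.comap_primeIdealOf_appLE (f := f) (⊤ : S.Opens) (isAffineOpen_top S) ⊤
          (isAffineOpen_top X) (fun _ _ => trivial) (x := z.1) trivial
        have h3 : (isAffineOpen_top S).primeIdealOf ⟨f z.1, trivial⟩ = ⟨p, inferInstance⟩ := by
          simp only [show f z.1 = y from hzy]
          exact hy
        rw [h3] at h2
        have h4 : f.appLE ⊤ ⊤ (fun _ _ => trivial) = f.appTop := Scheme.Hom.appLE_eq_app f
        rw [h4] at h2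
        exact congrArg PrimeSpectrum.asIdeal h2
      haveI : q.asIdeal.LiesOver p := ⟨hqp.symm⟩
      let φ : p.ResidueField →ₐ[A] K := Ideal.ResidueField.liftₐ p (Algebra.ofId A K) le_rfl fun x hx =>
        (Ne.isUnit fun h0 => hx h0 : IsUnit (algebraMap A K x))
      have h5 : (1 : p.ResidueField) ⊗ₜ[A] g = 0 := by
        refine Module.Flat.rTensor_preserves_injective_linearMap (M := B) φ.toLinearMap φ.toRingHom.injective ?_
        rw [map_zero, LinearMap.rTensor_tmul, AlgHom.toLinearMap_apply, map_one]
        exact h1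
      letI : Algebra p.ResidueField q.asIdeal.ResidueField :=
        (Ideal.ResidueField.mapₐ p q.asIdeal (Algebra.ofId A B) hqp.symm).toRingHom.toAlgebra
      haveI : IsScalarTower A p.ResidueField q.asIdeal.ResidueField := IsScalarTower.of_algebraMap_eq fun x =>
        ((Ideal.ResidueField.mapₐ p q.asIdeal (Algebra.ofId A B) hqp.symm).commutes x).symm
      let ψ : p.ResidueField ⊗[A] B →ₐ[A] q.asIdeal.ResidueField := Algebra.TensorProduct.lift
        (IsScalarTower.toAlgHom A p.ResidueField q.asIdeal.ResidueField)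
        (IsScalarTower.toAlgHom A B q.asIdeal.ResidueField) fun _ _ => Commute.all _ _
      have h6 := congrArg ψ h5
      rw [Algebra.TensorProduct.lift_tmul, map_one, one_mul, map_zero] at h6
      exact hgq (Ideal.algebraMap_residueField_eq_zero.1 h6)
  choose t hts hproj using hloc
  have hcov : Ideal.span (Set.range t) = ⊤ := by
    rw [← (isAffineOpen_top S).iSup_basicOpen_eq_self_iff, eq_top_iff]
    exact fun s _ => Opens.mem_iSup.2 ⟨⟨t s, s, rfl⟩, hts s⟩
  obtain ⟨T, hT, hTspan⟩ := Submodule.mem_span_finite_of_mem_span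
    (show (1 : A) ∈ Ideal.span (Set.range t) by rw [hcov]; exact Submodule.mem_top)
  refine projective_of_localization_away (s := T) ((Ideal.eq_top_iff_one _).2 hTspan) fun a ha => ?_
  obtain ⟨s, rfl⟩ := hT (Finset.mem_coe.2 ha)
  exact hproj s

end GeomPureLib
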