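import Groth.Agent.FlatInjLib.ProjUniv
import Groth.Agent.FlatInjLib.AssFibre
import Groth.Prelude.Def_FlatCA

/-!
# A module projective over the base is universally pure
-/

set_option autoImplicit false
set_option backward.isDefEq.respectTransparency false
set_option linter.style.haveILetI false

universe u

open TensorProduct IsLocalRing

noncomputable section

namespace GeomPureLib

/-- An endomorphism of a projective module which is injective on the fibre at `t` is injective on the fibres at the
generizations of `t`. -/
theorem lTensor_injective_of_fibre {A N : Type u} [CommRing A] [AddCommGroup N] [Module A N] [Module.Projective A N]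
    (v : N →ₗ[A] N) (t : Ideal A) [t.IsPrime] (hv : Function.Injective (v.lTensor t.ResidueField))
    (K : Type u) [Field K] [Algebra A K] (hK : RingHom.ker (algebraMap A K) ≤ t) :
    Function.Injective (v.lTensor K) := by
  let R := Localization.AtPrime t
  have hu : ∀ x : t.primeCompl, IsUnit (algebraMap A K x) := fun x =>
    (Ne.isUnit fun h0 => x.2 (hK h0))
  letI : Algebra R K := (IsLocalization.lift hu : R →+* K).toAlgebra
  haveI : IsScalarTower A R K := IsScalarTower.of_algebraMap_eq fun x => (IsLocalization.lift_eq hu x).symm
  let u : R ⊗[A] N →ₗ[R] R ⊗[A] N := v.baseChange R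
  have comm : ∀ (Q : Type u) [AddCommGroup Q] [Module A Q] [Module R Q] [IsScalarTower A R Q] (z : Q ⊗[R] (R ⊗[A] N)),
      TensorProduct.AlgebraTensorModule.cancelBaseChange A R R Q N (u.lTensor Q z) =
        v.lTensor Q (TensorProduct.AlgebraTensorModule.cancelBaseChange A R R Q N z) := by
    intro Q _ _ _ _ z
    induction z using TensorProduct.induction_on with
    | zero => simp
    | add x y hx hy => simp only [map_add, hx, hy]
    | tmul q w =>
      induction w using TensorProduct.induction_on with
      | zero => simp
      | add x y hx hy => simp only [tmul_add, map_add] at hx hy ⊢; rw [hx, hy]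
      | tmul r n =>
        rw [LinearMap.lTensor_tmul, LinearMap.baseChange_tmul, TensorProduct.AlgebraTensorModule.cancelBaseChange_tmul,
          TensorProduct.AlgebraTensorModule.cancelBaseChange_tmul, LinearMap.lTensor_tmul]
  have h1 : Function.Injective (u.lTensor (ResidueField R)) := fun a b hab =>
    (TensorProduct.AlgebraTensorModule.cancelBaseChange A R R (ResidueField R) N).injective
      (hv (by rw [← comm, ← comm, hab]))
  have h2 := FlatInjLib.univInj_of_projective u h1 K
  intro a b hab
  obtain ⟨a, rfl⟩ := (TensorProduct.AlgebraTensorModule.cancelBaseChange A R R K N).surjective a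
  obtain ⟨b, rfl⟩ := (TensorProduct.AlgebraTensorModule.cancelBaseChange A R R K N).surjective b
  rw [← comm, ← comm] at hab
  rw [h2 ((TensorProduct.AlgebraTensorModule.cancelBaseChange A R R K N).injective hab)]

theorem isUnivPure_of_projective {A B : Type u} [CommRing A] [CommRing B] [Algebra A B] [Algebra.FiniteType A B]
    (N : Type u) [AddCommGroup N] [Module B N] [Module A N] [IsScalarTower A B N] [Module.Finite B N]
    [Module.Projective A N] : FlatCA.IsUnivPure A B N := by
  intro p _ A' B' N' _ _ _ _ _ _ _ _ _ _ _ _ _ _ f t' t _ _ P _ ⟨hpush, hbc, htt, _, hPt, hass, hno⟩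
  haveI := hpush
  haveI := hpush.symm
  haveI : Module.Projective A' N' := Module.Projective.of_equiv
    (((Algebra.IsPushout.cancelBaseChange A A' B B' N).symm).trans (hbc.equiv.restrictScalars A'))
  haveI : Algebra.FiniteType A' B' :=
    Algebra.FiniteType.equiv (inferInstance : Algebra.FiniteType A' (A' ⊗[A] B))
      (Algebra.IsPushout.equiv A A' B B')
  let T := Submonoid.map (algebraMap A' B') t.primeCompl
  have hmeet : ¬ Disjoint ((P ⊔ t.map (algebraMap A' B') : Ideal B') : Set B') (T : Set B') := fun hd => by
    obtain ⟨P', hP', hle, hd'⟩ := Ideal.exists_le_prime_disjoint _ _ hd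
    haveI := hP'
    refine hno P' (le_trans le_sup_left hle) ⟨le_antisymm (fun a ha => ?_) fun a ha => ?_⟩
    · exact hle (Submodule.mem_sup_right (Ideal.mem_map_of_mem _ ha))
    · by_contra h
      exact Set.disjoint_left.1 hd' ha ⟨a, h, rfl⟩
  obtain ⟨_, hw, a, ha, rfl⟩ := Set.not_disjoint_iff.1 hmeet
  obtain ⟨s, hs, y, hy, hsy⟩ := Submodule.mem_sup.1 hw
  let v : ∀ b : B', N' →ₗ[A'] N' := fun b => (LinearMap.lsmul B' N' b).restrictScalars A'
  -- injectivity on the fibre at `t`
  have hy0 : (v y).lTensor t.ResidueField = 0 := by
    clear hsy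
    induction hy using Submodule.span_induction with
    | mem b hb =>
      obtain ⟨c, hc, rfl⟩ := hb
      refine TensorProduct.ext' fun x n => ?_
      show x ⊗ₜ[A'] (algebraMap A' B' c • n) = 0
      rw [algebraMap_smul, ← smul_tmul, Algebra.smul_def, Ideal.algebraMap_residueField_eq_zero.2 hc, zero_mul,
        zero_tmul]
    | zero => exact TensorProduct.ext' fun x n => by simp [v]
    | add b c _ _ hb hc =>
      rw [show v (b + c) = v b + v c from LinearMap.ext fun n => add_smul b c n, LinearMap.lTensor_add, hb, hc, add_zero]
    | smul c b _ hb =>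
      rw [show v (c • b) = (v c).comp (v b) from LinearMap.ext fun n => mul_smul c b n, LinearMap.lTensor_comp, hb,
        LinearMap.comp_zero]
  have hinj : Function.Injective ((v s).lTensor t.ResidueField) := by
    intro a₁ a₂ h
    have hu : IsUnit (algebraMap A' t.ResidueField a) :=
      Ne.isUnit fun h0 => ha (Ideal.algebraMap_residueField_eq_zero.1 h0)
    have key : ∀ z, (v (algebraMap A' B' a)).lTensor t.ResidueField z = algebraMap A' t.ResidueField a • z := fun z => by
      induction z using TensorProduct.induction_on with
      | zero => simp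
      | add x y hx hy => rw [map_add, hx, hy, smul_add]
      | tmul x n =>
        show x ⊗ₜ[A'] (algebraMap A' B' a • n) = _
        rw [algebraMap_smul, ← smul_tmul, smul_tmul', smul_eq_mul, Algebra.smul_def]
    have hsum : (v (algebraMap A' B' a)).lTensor t.ResidueField = (v s).lTensor t.ResidueField := by
      rw [← hsy, show v (s + y) = v s + v y from LinearMap.ext fun n => add_smul s y n, LinearMap.lTensor_add, hy0,
        add_zero]
    rw [← hsum, key, key] at h
    exact hu.smul_left_cancel.1 h
  have hinj' := lTensor_injective_of_fibre (v s) t hinj t'.ResidueField fun c hc =>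
    htt (Ideal.algebraMap_residueField_eq_zero.1 hc)
  -- the associated prime
  haveI : IsNoetherianRing (t'.Fiber B') := Algebra.FiniteType.isNoetherianRing t'.ResidueField _
  haveI := IsAssociatedPrime.isPrime hass
  letI : Algebra B' (t'.Fiber B') := Algebra.TensorProduct.rightAlgebra
  obtain ⟨-, x, hx⟩ := isAssociatedPrime_iff.1 hass
  revert x
  intro (x : (t'.Fiber B') ⊗[B'] N') hx
  let E : (t'.Fiber B') ⊗[B'] N' ≃ₗ[t'.ResidueField] t'.ResidueField ⊗[A'] N' :=
    Algebra.IsPushout.cancelBaseChange A' t'.ResidueField B' (t'.Fiber B') N'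
  have hE : ∀ (c : t'.ResidueField) (n : N'), E.symm (c ⊗ₜ n) = (c ⊗ₜ[A'] (1 : B')) ⊗ₜ[B'] n := fun c n =>
    Algebra.IsPushout.cancelBaseChange_symm_tmul A' t'.ResidueField B' (t'.Fiber B') N' c n
  have hkey : ∀ w, E.symm ((v s).lTensor t'.ResidueField w) =
      (Algebra.TensorProduct.includeRight (R := A') (A := t'.ResidueField) (B := B')) s • E.symm w := fun w => by
    induction w using TensorProduct.induction_on with
    | zero => simp
    | add x y hx hy => simp only [map_add, smul_add, hx, hy]
    | tmul c n =>
      rw [LinearMap.lTensor_tmul, hE, hE, TensorProduct.smul_tmul', smul_eq_mul]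
      show _ ⊗ₜ[B'] (s • n) = _
      rw [← smul_tmul, Algebra.smul_def]
      rfl
  have h2 : (Algebra.TensorProduct.includeRight (R := A') (A := t'.ResidueField) (B := B')) s ∈
      FlatCA.fiberIdeal t' P := Ideal.mem_map_of_mem _ hs
  rw [hx, Submodule.mem_colon_singleton, Submodule.mem_bot] at h2
  obtain ⟨w, rfl⟩ := E.symm.surjective x
  have h3 : (v s).lTensor t'.ResidueField w = (v s).lTensor t'.ResidueField 0 := by
    rw [map_zero]
    exact E.symm.map_eq_zero_iff.1 ((hkey w).trans h2)
  refine (IsAssociatedPrime.isPrime hass).ne_top ?_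
  rw [hx, hinj' h3, map_zero]
  exact (Ideal.eq_top_iff_one _).2 (Submodule.mem_colon_singleton.2 (smul_zero _))

end GeomPureLib
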