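import Groth.Agent.AdicInjLib.Main
import Mathlib.RingTheory.Ideal.GoingDown

/-!
# Flat algebras with geometrically integral fibres are universally pure
-/

set_option autoImplicit false
set_option backward.isDefEq.respectTransparency false
set_option linter.style.haveILetI false

universe u

open TensorProduct

namespace GeomPureLib

variable {A B : Type u} [CommRing A] [CommRing B] [Algebra A B]

theorem isDomain_fiber (h : FlatCA.GeomIntegralFibres A B) {A' B' : Type u} [CommRing A'] [CommRing B']
    [Algebra A A'] [Algebra B B'] [Algebra A' B'] [Algebra A B'] [IsScalarTower A B B'] [IsScalarTower A A' B']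
    (hpush : Algebra.IsPushout A B A' B') (t : Ideal A') [t.IsPrime] : IsDomain (t.Fiber B') := by
  haveI := AdicInjLib.isDomain_tensor h t.ResidueField
  haveI := hpush.symm
  let e1 : t.ResidueField ⊗[A'] B' ≃ₐ[A'] t.ResidueField ⊗[A'] (A' ⊗[A] B) :=
    Algebra.TensorProduct.congr AlgEquiv.refl (Algebra.IsPushout.equiv A A' B B').symm
  let e2 : t.ResidueField ⊗[A'] (A' ⊗[A] B) ≃+* t.ResidueField ⊗[A] B :=
    (Algebra.TensorProduct.cancelBaseChange A A' A' t.ResidueField B).toRingEquiv
  exact MulEquiv.isDomain _ (e1.toRingEquiv.trans e2).toMulEquiv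

theorem isUnivPure [Algebra.FiniteType A B] [Module.Flat A B] (h : FlatCA.GeomIntegralFibres A B) :
    FlatCA.IsUnivPure A B B := by
  intro p _ A' B' N' _ _ _ _ _ _ _ _ _ _ _ _ _ _ f t' t _ _ P _ ⟨hpush, hbc, htt, _, hPt, hass, hno⟩
  haveI := isDomain_fiber h hpush t'
  haveI := isDomain_fiber h hpush t
  haveI : Algebra.FiniteType A' B' := by
    haveI := hpush.symm
    exact Algebra.FiniteType.equiv (inferInstance : Algebra.FiniteType A' (A' ⊗[A] B))
      (Algebra.IsPushout.equiv A A' B B')
  haveI : IsNoetherianRing (t'.Fiber B') := Algebra.FiniteType.isNoetherianRing t'.ResidueField _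
  haveI : Module.Flat A' B' := Module.Flat.isBaseChange (R := A) (M := B) A' B' hpush.symm.out
  letI : Algebra B' (t'.Fiber B') := Algebra.TensorProduct.rightAlgebra
  let eN : B' ≃ₗ[B'] N' :=
    (TensorProduct.AlgebraTensorModule.rid B B' B').symm.trans hbc.equiv
  let e : FlatCA.fiberMod t' B' N' ≃ₗ[t'.Fiber B'] t'.Fiber B' :=
    (TensorProduct.AlgebraTensorModule.congr (LinearEquiv.refl (t'.Fiber B') (t'.Fiber B')) eN.symm).trans
      (TensorProduct.AlgebraTensorModule.rid B' (t'.Fiber B') (t'.Fiber B'))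
  haveI := IsAssociatedPrime.isPrime hass
  obtain ⟨-, x, hx⟩ := isAssociatedPrime_iff.1 hass
  have hx0 : e x ≠ 0 := fun h0 => (IsAssociatedPrime.isPrime hass).ne_top (by
    rw [hx, (LinearEquiv.map_eq_zero_iff e).1 h0]
    exact (Ideal.eq_top_iff_one _).2 (Submodule.mem_colon_singleton.2 (smul_zero _)))
  have hP : ∀ a ∈ P, (1 : t'.ResidueField) ⊗ₜ[A'] a = 0 := fun a ha => by
    have h2 : (Algebra.TensorProduct.includeRight (R := A') (A := t'.ResidueField) (B := B')) a ∈
        FlatCA.fiberIdeal t' P := Ideal.mem_map_of_mem _ ha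
    rw [hx, Submodule.mem_colon_singleton, Submodule.mem_bot] at h2
    have h3 := congrArg e h2
    rw [map_smul, map_zero, smul_eq_mul] at h3
    exact (mul_eq_zero.1 h3).resolve_right hx0
  -- a prime over `t`
  obtain ⟨M, hM⟩ := Ideal.exists_maximal (t.Fiber B')
  let Q := M.comap (Algebra.TensorProduct.includeRight (R := A') (A := t.ResidueField) (B := B'))
  haveI := hM.isPrime
  haveI : Q.IsPrime := Ideal.IsPrime.comap _
  haveI : Q.LiesOver t := ⟨by
    ext a
    show _ ↔ Algebra.TensorProduct.includeRight (algebraMap A' B' a) ∈ M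
    rw [AlgHom.commutes, IsScalarTower.algebraMap_apply A' t.ResidueField (t.Fiber B'),
      ← Ideal.algebraMap_residueField_eq_zero (I := t)]
    refine ⟨fun ha => by rw [ha, map_zero]; exact zero_mem _, fun ha => by_contra fun hne => ?_⟩
    exact hM.ne_top (Ideal.eq_top_of_isUnit_mem _ ha ((IsUnit.mk0 _ hne).map _))⟩
  obtain ⟨P₀, hP₀, _, hP₀t⟩ := Q.exists_ideal_le_liesOver_of_le (p := t') (q := t) htt
  refine hno Q (le_trans (fun a ha => ?_) hP₀) inferInstance
  haveI := hP₀t
  letI : Algebra t'.ResidueField P₀.ResidueField :=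
    (Ideal.ResidueField.mapₐ t' P₀ (Algebra.ofId A' B') hP₀t.over).toRingHom.toAlgebra
  haveI : IsScalarTower A' t'.ResidueField P₀.ResidueField := IsScalarTower.of_algebraMap_eq fun a =>
    ((Ideal.ResidueField.mapₐ t' P₀ (Algebra.ofId A' B') hP₀t.over).commutes a).symm
  let ψ : t'.Fiber B' →ₐ[A'] P₀.ResidueField := Algebra.TensorProduct.lift
    (IsScalarTower.toAlgHom A' t'.ResidueField P₀.ResidueField) (IsScalarTower.toAlgHom A' B' P₀.ResidueField)
    fun _ _ => Commute.all _ _
  have h1 := congrArg ψ (hP a ha)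
  rw [Algebra.TensorProduct.lift_tmul, map_one, one_mul, map_zero] at h1
  exact Ideal.algebraMap_residueField_eq_zero.1 h1

end GeomPureLib
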