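import Groth.Prelude.Def_FlatCA
import Mathlib.RingTheory.Etale.Basic

/-!
# Universal purity is purity after every base change
-/

set_option autoImplicit false
set_option backward.isDefEq.respectTransparency false
set_option linter.style.haveILetI false
set_option linter.unusedSectionVars false

universe u

open TensorProduct

noncomputable section

namespace GeomPureLib

theorem isUnivPureAlong_iff_forall_isPureAlong {A B : Type u} [CommRing A] [CommRing B] [Algebra A B]
    (N : Type u) [AddCommGroup N] [Module B N] (p : Ideal A) [p.IsPrime] :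
    FlatCA.IsUnivPureAlong A B N p ↔ ∀ (A' B' N' : Type u) [CommRing A'] [CommRing B'] [Algebra A A'] [Algebra B B'] [Algebra A' B'] [Algebra A B'] [IsScalarTower A B B'] [IsScalarTower A A' B'] [Algebra.IsPushout A B A' B'] [AddCommGroup N'] [Module B' N'] [Module B N'] [IsScalarTower B B' N'] (g : N →ₗ[B] N'), IsBaseChange B' g → ∀ (p' : Ideal A') [p'.IsPrime], p'.LiesOver p → FlatCA.IsPureAlong A' B' N' p' := by
  constructor
  · intro h A' B' N' _ _ _ _ _ _ _ _ hp _ _ _ _ g hg p' _ hp' A'' B'' N'' _ _ _ _ _ _ _ _ _ _ _ _ _ _ f t' t _ _ P _ _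
      ⟨hpush, hbc, htt, hto, hPt, hass, hno⟩
    letI : Algebra A A'' := ((algebraMap A' A'').comp (algebraMap A A')).toAlgebra
    letI : Algebra B B'' := ((algebraMap B' B'').comp (algebraMap B B')).toAlgebra
    letI : Algebra A B'' := ((algebraMap A' B'').comp (algebraMap A A')).toAlgebra
    letI : Module B N'' := Module.compHom N'' (algebraMap B B'')
    haveI : IsScalarTower A A' A'' := IsScalarTower.of_algebraMap_eq' rfl
    haveI : IsScalarTower A A' B'' := IsScalarTower.of_algebraMap_eq' rfl
    haveI : IsScalarTower B B' B'' := IsScalarTower.of_algebraMap_eq' rfl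
    haveI : IsScalarTower B B'' N'' := IsScalarTower.of_algebraMap_smul fun r x => rfl
    haveI : IsScalarTower B B' N'' := IsScalarTower.of_algebraMap_smul fun r x =>
      (algebraMap_smul B'' (algebraMap B B' r) x).symm
    haveI : IsScalarTower A A'' B'' := IsScalarTower.of_algebraMap_eq fun r => by
      rw [IsScalarTower.algebraMap_apply A A' A'', ← IsScalarTower.algebraMap_apply A' A'' B'',
        ← IsScalarTower.algebraMap_apply A A' B'']
    haveI : IsScalarTower A B' B'' := IsScalarTower.of_algebraMap_eq fun r => by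
      rw [IsScalarTower.algebraMap_apply A A' B', ← IsScalarTower.algebraMap_apply A' B' B'',
        ← IsScalarTower.algebraMap_apply A A' B'']
    haveI : IsScalarTower A B B'' := IsScalarTower.of_algebraMap_eq fun r => by
      rw [IsScalarTower.algebraMap_apply B B' B'', ← IsScalarTower.algebraMap_apply A B B',
        ← IsScalarTower.algebraMap_apply A B' B'']
    haveI : Algebra.IsPushout A A' B B' := hp.symm
    have hcomp : Algebra.IsPushout A B A'' B'' :=
      ((Algebra.IsPushout.comp_iff (R := A) (S := A') (R' := B) (S' := B') (T := A'') (T' := B'')).2 hpush.symm).symm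
    haveI := hto
    exact h A'' B'' N'' ((f.restrictScalars B).comp g) t' t P
      ⟨hcomp, hg.comp hbc, htt, Ideal.LiesOver.trans t p' p, hPt, hass, hno⟩
  · intro h A' B' N' _ _ _ _ _ _ _ _ _ _ _ _ _ _ f t' t _ _ P _ ⟨hpush, hbc, htt, hto, hPt, hass, hno⟩
    haveI := hpush
    refine h A' B' N' f hbc t hto A' B' N' LinearMap.id t' t P ⟨inferInstance, ⟨⟨rfl⟩, ?_⟩⟩
      ⟨inferInstance, IsBaseChange.ofEquiv (LinearEquiv.refl B' N'), htt, ⟨rfl⟩, hPt, hass, hno⟩
    have he : Ideal.ResidueField.mapₐ t t (Algebra.ofId A' A') rfl = AlgHom.id A' _ :=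
      Ideal.ResidueField.mapₐ_id t
    exact he ▸ Function.bijective_id

end GeomPureLib
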